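import Mathlib
import Cfsg.Prelude.Def_BaumannBlocks
import Cfsg.Agent.Lib.PGroup.BaumannSect
import Cfsg.Agent.Lib.BlockX.Chain

/-! Definitions shared by the pieces of S2986. -/

set_option autoImplicit false
namespace Cfsg.Agent.Lib.BPair
open Subgroup Cfsg Matrix Cfsg.Agent.Lib.PGroup.BaumannSect
open scoped commutatorElement

variable {G : Type*} [Group G] [Finite G] {p : ℕ} [hp : Fact p.Prime]

/-- `Q = O_p(E)`. -/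
abbrev Qb (p : ℕ) (E : Subgroup G) : Subgroup G := pCoreOf p E
/-- `W = Ω₁(Z(Q))`. -/
abbrev Wb (p : ℕ) (E : Subgroup G) : Subgroup G := omegaOneCenter p (pCoreOf p E)
/-- `Z = W ∩ C(E)`. -/
abbrev Zb (p : ℕ) (E : Subgroup G) : Subgroup G := Wb p E ⊓ centralizer (E : Set G)
/-- `V = [W, E]`. -/
abbrev Vb (p : ℕ) (E : Subgroup G) : Subgroup G := ⁅Wb p E, E⁆

/-- "Big" block: `E/Q` quasisimple and `E` generated by its `p`-elements. -/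
def IsBigBlock (p : ℕ) (E : Subgroup G) : Prop :=
  IsQuasisimple (↥E ⧸ pCore p ↥E) ∧
    ∀ H : Subgroup G, (∀ e ∈ E, (∃ k : ℕ, e ^ (p ^ k) = 1) → e ∈ H) → E ≤ H

/-- `p = 2`, `E/Q` of order 3, `Q = W = V` of order 4. -/
def IsSmall2 (E : Subgroup G) : Prop :=
  Nat.card (↥E ⧸ pCore 2 ↥E) = 3 ∧ Qb 2 E = Vb 2 E ∧ Nat.card (Vb 2 E) = 4

/-- `p = 3`, linear block over a field with 3 elements (the relevant disjunct of `IsBaumannBlock`, verbatim). -/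
def IsSmall3 (T E : Subgroup G) : Prop :=
  ∃ (F : Type) (_ : Field F) (_ : Fintype F), Fintype.card F = 3 ∧
    Nonempty (↥E ⧸ pCore 3 ↥E ≃* ↥(commutator (Matrix.SpecialLinearGroup (Fin 2) F))) ∧
    ActsAsSL2OnSection F (commutator (Matrix.SpecialLinearGroup (Fin 2) F)) E (Wb 3 E) (Zb 3 E) ∧
    (pCoreOf 3 E = Wb 3 E ∨
      (ActsAsSL2OnSection F (commutator (Matrix.SpecialLinearGroup (Fin 2) F)) E (pCoreOf 3 E) (Wb 3 E) ∧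
        ⁅pCoreOf 3 E, pCoreOf 3 E⁆ = Zb 3 E ∧
        (frattini ↥(pCoreOf 3 E)).map (pCoreOf 3 E).subtype = Zb 3 E ∧
        E ⊓ Subgroup.centralizer (E : Set G) = Zb 3 E ∧
        Nat.card ↥(E ⊓ Subgroup.centralizer (E : Set G)) = 3 ^ 1 ∧
        ∀ b : G, b ∈ baumannSubgroupOf 3 T → b ∉ Subgroup.centralizer (Wb 3 E : Set G) →
          ¬ ⁅⁅pCoreOf 3 E, Subgroup.zpowers b⁆, Subgroup.zpowers b⁆ ≤ E ⊓ Subgroup.centralizer (E : Set G)))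

/-! ## p = 3 small blocks -/

/-- Action of `SL₂(𝔽₃)` on `𝔽₃²`. -/
abbrev S3act (k : Matrix.SpecialLinearGroup (Fin 2) (ZMod 3)) (a : Fin 2 → ZMod 3) : Fin 2 → ZMod 3 :=
  (k : Matrix (Fin 2) (Fin 2) (ZMod 3)).mulVec a

/-- The elementwise data of a small block for `p = 3` (non-exceptional or exceptional).
`Y = O₃(G)`, `Ω = Ω₁(Z(Y))`; `V = [W,E] ≤ Ω`, `ρ/φ` the natural module structure on `V`. -/
structure Sm3 (E : Subgroup G) where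
  t : G
  ht : t ∈ E
  ht2 : t * t = 1
  htV : ∀ v ∈ Vb 3 E, t * v * t⁻¹ = v⁻¹
  /-- `W ≤ Ω`. -/
  hWΩ : Wb 3 E ≤ omegaOneCenter 3 (pCore 3 G)
  ρ : G → Matrix.SpecialLinearGroup (Fin 2) (ZMod 3)
  φ : G → Fin 2 → ZMod 3
  ρ_mul : ∀ x ∈ E, ∀ y ∈ E, ρ (x * y) = ρ x * ρ y
  ρ_mem : ∀ e ∈ E, ρ e ∈ commutator (Matrix.SpecialLinearGroup (Fin 2) (ZMod 3))
  ρ_surj : ∀ k ∈ commutator (Matrix.SpecialLinearGroup (Fin 2) (ZMod 3)), ∃ e ∈ E, ρ e = k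
  ρ_ker : ∀ e ∈ E, ρ e = 1 ↔ e ∈ Qb 3 E
  φ_mul : ∀ x ∈ Vb 3 E, ∀ y ∈ Vb 3 E, φ (x * y) = φ x + φ y
  φ_surj : ∀ b : Fin 2 → ZMod 3, ∃ v ∈ Vb 3 E, φ v = b
  φ_ker : ∀ v ∈ Vb 3 E, φ v = 0 ↔ v = 1
  ρ_act : ∀ e ∈ E, ∀ v ∈ Vb 3 E, φ (e * v * e⁻¹) = S3act (ρ e) (φ v)
  hWd : ∀ w ∈ Wb 3 E, ∃ v ∈ Vb 3 E, ∃ z ∈ Zb 3 E, w = v * z
  /-- Claim K: an element normalizing `E` and centralizing `V` is trivial on `Q/W`. -/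
  hK : ∀ c : G, c ∈ centralizer (Vb 3 E : Set G) → c ∈ normalizer (E : Set G) →
    ∀ q ∈ Qb 3 E, ⁅q, c⁆ ∈ Wb 3 E

section L
variable {A : Type*} [AddCommGroup A] [Module (ZMod 3) A] [Finite A]

/-- `X ≤ GL(A)`, `[A, X] = M`, and `X` acts on `M ≅ 𝔽₃²` exactly as `Q₈ = SL₂(𝔽₃)'`. -/
def IsQ8 (X : Subgroup (A ≃ₗ[ZMod 3] A)) (M : Submodule (ZMod 3) A) : Prop :=
  (∀ x ∈ X, ∀ a : A, x a - a ∈ M) ∧
  (∀ S : Submodule (ZMod 3) A, (∀ x ∈ X, ∀ a : A, x a - a ∈ S) → M ≤ S) ∧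
  ∃ ψ : ↥M ≃ₗ[ZMod 3] (Fin 2 → ZMod 3),
    (∀ x ∈ X, ∃ k ∈ commutator (Matrix.SpecialLinearGroup (Fin 2) (ZMod 3)), ∀ m : ↥M,
        ∃ h : x (m : A) ∈ M, ψ ⟨x (m : A), h⟩ = S3act k (ψ m)) ∧
    (∀ k ∈ commutator (Matrix.SpecialLinearGroup (Fin 2) (ZMod 3)), ∃ x ∈ X, ∀ m : ↥M,
        ∃ h : x (m : A) ∈ M, ψ ⟨x (m : A), h⟩ = S3act k (ψ m))

end L

end Cfsg.Agent.Lib.BPair
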